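import Groth.Agent.Lib.LciJac.Core
import Groth.Agent.Lib.Synt92.KRRank
import Mathlib.RingTheory.Smooth.Locus
import Mathlib.RingTheory.Smooth.StandardSmoothCotangent
import Mathlib.LinearAlgebra.TensorProduct.Basis

/-!
# Smooth points of Koszul-regular complete intersections in a smooth algebra
-/

set_option autoImplicit false
set_option linter.style.haveILetI false
universe u

open TensorProduct
open Groth.Agent.H25.Fitting Groth.Agent.Lib.Synt92

namespace Groth.Agent.Lib.LciJac

theorem isSmoothAt_iff_fitt {R A B : Type u} [CommRing R] [CommRing A] [CommRing B] [Algebra R A]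
    [Algebra A B] [Algebra R B] [IsScalarTower R A B] [Algebra.FinitePresentation R B] {m c n : ℕ}
    (hn : n = m + c) [Algebra.IsStandardSmoothOfRelativeDimension n R A]
    (hs : Function.Surjective (algebraMap A B)) (hI : KRLoc.Gen c (RingHom.ker (algebraMap A B)))
    (P : Ideal B) [P.IsPrime] :
    Algebra.IsSmoothAt R P ↔ ¬ Fitt.ideal B Ω[B⁄R] m ≤ P := by
  haveI : Algebra.IsStandardSmooth R A :=
    Algebra.IsStandardSmoothOfRelativeDimension.isStandardSmooth n
  haveI : Nontrivial B := ⟨⟨0, 1, fun h => ‹P.IsPrime›.ne_top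
    (P.eq_top_iff_one.2 (h ▸ P.zero_mem))⟩⟩
  haveI : Nontrivial A := (algebraMap A B).domain_nontrivial
  obtain ⟨f, hf, hspan⟩ := hI
  let X : Algebra.Extension R B := ⟨A, _, Function.surjInv_eq hs⟩
  haveI : Algebra.FormallySmooth R X.Ring := inferInstanceAs (Algebra.FormallySmooth R A)
  have hmem : ∀ a, f a ∈ X.ker := fun a => hspan.ge (Ideal.subset_span ⟨a, rfl⟩)
  let F : Fin c → X.ker := fun a => ⟨f a, hmem a⟩
  let φ : (Fin c → B) →ₗ[B] X.Cotangent :=
    Fintype.linearCombination B fun a => Algebra.Extension.Cotangent.mk (F a)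
  have hφc : ∀ w : Fin c → A, φ (algebraMap A B ∘ w) =
      Algebra.Extension.Cotangent.mk (∑ a, (w a : X.Ring) • F a) := fun w => by
    simp only [φ, Fintype.linearCombination_apply, Function.comp_apply, map_sum, map_smul]
    exact Finset.sum_congr rfl fun a _ => algebraMap_smul B (w a : X.Ring) _
  have hφ : Function.Bijective φ := by
    refine ⟨(injective_iff_map_eq_zero _).2 fun w hw => ?_, fun x => ?_⟩
    · choose w₀ hw₀ using fun a => hs (w a)
      obtain rfl : algebraMap A B ∘ w₀ = w := funext hw₀
      rw [hφc, Algebra.Extension.Cotangent.mk_eq_zero_iff, ← Ideal.toCotangent_eq_zero,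
        map_sum] at hw
      obtain ⟨b, hb⟩ := KRRank.exists_basis (I := X.ker) F hf hspan.symm
      have h0 : ∑ a, Ideal.Quotient.mk X.ker (w₀ a) • b a = 0 := by
        rw [← hw]
        refine Finset.sum_congr rfl fun a _ => ?_
        rw [hb, map_smul]
        rfl
      funext a
      exact Ideal.Quotient.eq_zero_iff_mem.1 (Fintype.linearIndependent_iff.1 b.linearIndependent _ h0 a)
    · obtain ⟨⟨y, hy⟩, rfl⟩ := Algebra.Extension.Cotangent.mk_surjective x
      obtain ⟨w, hw⟩ := Ideal.mem_span_range_iff_exists_fun.1 (hspan.le hy)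
      refine ⟨algebraMap A B ∘ w, (hφc w).trans (congrArg _ (Subtype.ext ?_))⟩
      simp only [AddSubmonoidClass.coe_finsetSum, SetLike.val_smul, smul_eq_mul]
      exact hw
  let bas : Module.Basis (Fin n) A Ω[A⁄R] := by
    have hr := Algebra.IsStandardSmoothOfRelativeDimension.rank_kaehlerDifferential
      (R := R) (S := A) n
    haveI : Module.Finite A Ω[A⁄R] := Module.finite_of_rank_eq_nat hr
    exact Module.finBasisOfFinrankEq A Ω[A⁄R] (Module.finrank_eq_of_rank_eq hr)
  let bB : Module.Basis (Fin n) B X.CotangentSpace := bas.baseChange B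
  let C : X.CotangentSpace ≃ₗ[B] (Fin n → B) := bB.equivFun
  let v : Fin n → Ω[B⁄R] := fun k => X.toKaehler (bB k)
  let M : Fin c → Fin n → B := fun a => C (X.cotangentComplex (Algebra.Extension.Cotangent.mk (F a)))
  have hM : Fintype.linearCombination B M = C.toLinearMap ∘ₗ X.cotangentComplex ∘ₗ φ := by
    refine LinearMap.pi_ext' fun a => LinearMap.ext_ring ?_
    simp [M, φ, Fintype.linearCombination_apply_single]
  have hv' : Fintype.linearCombination B v = X.toKaehler ∘ₗ C.symm.toLinearMap := by
    refine LinearMap.pi_ext' fun a => LinearMap.ext_ring ?_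
    simp [v, C, Fintype.linearCombination_apply_single, Module.Basis.equivFun_symm_apply, Pi.single_apply]
  have hrel : rel v = Submodule.span B (Set.range M) := by
    rw [← Fintype.range_linearCombination, hM, LinearMap.range_comp, LinearMap.range_comp,
      LinearMap.range_eq_top.2 hφ.2, Submodule.map_top,
      ← X.exact_cotangentComplex_toKaehler.linearMap_ker_eq]
    show LinearMap.ker (Fintype.linearCombination B v) = _
    rw [hv', LinearMap.ker_comp, Submodule.map_equiv_eq_comap_symm]
  have hv : Submodule.span B (Set.range v) = ⊤ := by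
    rw [← Fintype.range_linearCombination, hv', LinearMap.range_eq_top]
    exact X.toKaehler_surjective.comp C.symm.surjective
  rw [core_iff P hn v M hrel hv]
  change (⟨P, ‹_›⟩ : PrimeSpectrum B) ∈ Algebra.smoothLocus R B ↔ _
  rw [Algebra.smoothLocus_eq_compl_support_inter]
  refine and_congr_left' ?_
  let E := X.equivH1CotangentOfFormallySmooth
  rw [Set.mem_compl_iff, Module.notMem_support_iff']
  constructor
  · intro h w hw
    have hker : φ w ∈ LinearMap.ker X.cotangentComplex := by
      rw [LinearMap.mem_ker]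
      exact C.map_eq_zero_iff.1 ((LinearMap.congr_fun hM w).symm.trans hw)
    let z : X.H1Cotangent := ⟨φ w, hker⟩
    obtain ⟨r, hr, h0⟩ := h (E z)
    refine ⟨r, hr, hφ.1 ?_⟩
    have h1 : r • z = 0 := E.map_eq_zero_iff.1 ((E.map_smul r z).trans h0)
    rw [map_smul, map_zero]
    exact congrArg Subtype.val h1
  · intro h x
    obtain ⟨z, rfl⟩ := E.surjective x
    obtain ⟨w, hw⟩ := hφ.2 z.1
    obtain ⟨r, hr, h0⟩ := h w (by
      rw [hM, LinearMap.comp_apply, LinearMap.comp_apply, hw, LinearMap.mem_ker.1 z.2, map_zero])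
    refine ⟨r, hr, (E.map_smul r z).symm.trans (E.map_eq_zero_iff.2 (Subtype.ext ?_))⟩
    show r • z.1 = 0
    rw [← hw, ← map_smul, h0, map_zero]

end Groth.Agent.Lib.LciJac
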