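import Groth.Agent.H25.FittingLoc
import Mathlib.RingTheory.Spectrum.Prime.FreeLocus
import Mathlib.RingTheory.OrzechProperty
import Mathlib.LinearAlgebra.Dimension.Constructions

/-!
# Fitting ideal of a module with a presentation with few relations

If `Ω` has `m + c` generators and `c` relations, then the `m`-th Fitting ideal avoids a prime `P` iff at `P`
the relations are independent and `Ω` is free.
-/

set_option autoImplicit false
universe u

open TensorProduct
open Groth.Agent.H25.Fitting

namespace Groth.Agent.Lib.LciJac

variable {B : Type u} [CommRing B] (P : Ideal B) [P.IsPrime] {Ω : Type u} [AddCommGroup Ω] [Module B Ω]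

theorem injective_iff {c n : ℕ} (M : Fin c → Fin n → B) :
    (∀ w, Fintype.linearCombination B M w = 0 → ∃ r ∉ P, r • w = 0) ↔
      Function.Injective (Fintype.linearCombination (Localization.AtPrime P)
        (fun a => algebraMap B (Localization.AtPrime P) ∘ M a)) := by
  classical
  set L := Localization.AtPrime P
  have hq : ∀ w : Fin c → B,
      Fintype.linearCombination L (fun a => algebraMap B L ∘ M a) (algebraMap B L ∘ w) =
        algebraMap B L ∘ Fintype.linearCombination B M w := fun w => by
    ext k
    simp [Fintype.linearCombination_apply, Finset.sum_apply, Algebra.smul_def]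
  constructor
  · intro h
    refine (injective_iff_map_eq_zero _).2 fun w' hw' => ?_
    obtain ⟨⟨s, hs⟩, hb⟩ := IsLocalization.exist_integer_multiples_of_finite P.primeCompl w'
    choose w hw using hb
    have e : algebraMap B L ∘ w = algebraMap B L s • w' := funext fun a => by
      rw [Function.comp_apply, hw a]
      exact Algebra.smul_def _ _
    have h0 := hq w
    rw [e, map_smul, hw', smul_zero] at h0
    choose r hr using fun k => (IsLocalization.map_eq_zero_iff P.primeCompl L _).1 (congrFun h0 k).symm
    have hp : ((∏ k, r k : P.primeCompl) : B) ∉ P := (∏ k, r k : P.primeCompl).2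
    obtain ⟨r', hr', h1⟩ := h (((∏ k, r k : P.primeCompl) : B) • w) (by
      rw [map_smul]
      ext k
      obtain ⟨t, ht⟩ := Finset.dvd_prod_of_mem r (Finset.mem_univ k)
      rw [Pi.smul_apply, smul_eq_mul, ht, Submonoid.coe_mul, mul_assoc, mul_left_comm, hr k,
        mul_zero, Pi.zero_apply])
    ext a
    have h2 : algebraMap B L (w a) = 0 := by
      refine (IsLocalization.map_eq_zero_iff P.primeCompl L _).2
        ⟨⟨r', hr'⟩ * ∏ k, r k, ?_⟩
      simpa [mul_assoc] using congrFun h1 a
    have h3 := congrFun e a
    rw [Function.comp_apply, h2, Pi.smul_apply, smul_eq_mul] at h3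
    exact (IsLocalization.map_units L (⟨s, hs⟩ : P.primeCompl)).mul_right_eq_zero.1 h3.symm
  · intro h w hw
    have h0 : algebraMap B L ∘ w = 0 := h (by
      rw [hq, hw, map_zero]
      exact funext fun _ => map_zero _)
    choose r hr using fun a => (IsLocalization.map_eq_zero_iff P.primeCompl L _).1 (congrFun h0 a)
    refine ⟨((∏ a, r a : P.primeCompl) : B), (∏ a, r a : P.primeCompl).2, funext fun a => ?_⟩
    obtain ⟨t, ht⟩ := Finset.dvd_prod_of_mem r (Finset.mem_univ a)
    rw [Pi.smul_apply, smul_eq_mul, ht, Submonoid.coe_mul, mul_right_comm, hr a, zero_mul, Pi.zero_apply]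

/-- A presentation with `m + c` generators and `c` relations over a nontrivial ring. -/
theorem free_of_span {L : Type u} [CommRing L] {N : Type u} [AddCommGroup N] [Module L N] {m c n : ℕ}
    (hn : n = m + c) (v : Fin n → N) (M : Fin c → Fin n → L)
    (hrel : rel v = Submodule.span L (Set.range M)) (hv : Submodule.span L (Set.range v) = ⊤)
    (g : Fin m → N) (hg : Submodule.span L (Set.range g) = ⊤) :
    Function.Injective (Fintype.linearCombination L M) ∧ Module.Free L N := by
  set q := Fintype.linearCombination L M
  have hq : LinearMap.range q = LinearMap.ker (Fintype.linearCombination L v) := by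
    rw [Fintype.range_linearCombination, ← hrel]
    rfl
  have hp : Function.Surjective (Fintype.linearCombination L v) := by
    rw [← LinearMap.range_eq_top, Fintype.range_linearCombination, hv]
  choose g' hg' using fun j => hp (g j)
  set τ := Fintype.linearCombination L g'
  have hpτ : Fintype.linearCombination L v ∘ₗ τ = Fintype.linearCombination L g := by
    refine LinearMap.pi_ext' fun j => LinearMap.ext_ring ?_
    simp [τ, hg' j, Fintype.linearCombination_apply_single]
  let Φ : (Fin c → L) × (Fin m → L) →ₗ[L] Fin n → L := q.coprod τ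
  have hΦ : Function.Surjective Φ := by
    intro x
    obtain ⟨a, ha⟩ : ∃ a, Fintype.linearCombination L g a = Fintype.linearCombination L v x :=
      (Submodule.mem_span_range_iff_exists_fun L).1 (hg.ge (Submodule.mem_top (x := Fintype.linearCombination L v x)))
    obtain ⟨w, hw⟩ : x - τ a ∈ LinearMap.range q := by
      rw [hq, LinearMap.mem_ker, map_sub, ← LinearMap.comp_apply, hpτ, ha, sub_self]
    exact ⟨(w, a), by simp [Φ, hw]⟩
  let e : ((Fin c → L) × (Fin m → L)) ≃ₗ[L] (Fin n → L) :=
    (LinearEquiv.sumArrowLequivProdArrow (Fin c) (Fin m) L L).symm ≪≫ₗ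
      LinearEquiv.funCongrLeft L L ((finCongr (by omega)).trans finSumFinEquiv.symm : Fin n ≃ Fin c ⊕ Fin m)
  have hinj : Function.Injective Φ := by
    have := OrzechProperty.injective_of_surjective_endomorphism (Φ ∘ₗ e.symm.toLinearMap)
      (hΦ.comp e.symm.surjective)
    exact (Function.Injective.of_comp_iff' Φ e.symm.bijective).1 this
  refine ⟨fun w w' h => ?_, ?_⟩
  · exact (Prod.ext_iff.1 (@hinj (w, 0) (w', 0) (by simpa [Φ] using h))).1
  · have hbij : Function.Bijective (Fintype.linearCombination L g) := by
      refine ⟨(injective_iff_map_eq_zero _).2 fun a ha => ?_, ?_⟩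
      · obtain ⟨w, hw⟩ : τ a ∈ LinearMap.range q := by
          rw [hq, LinearMap.mem_ker, ← LinearMap.comp_apply, hpτ, ha]
        have := @hinj (w, 0) (0, a) (by simpa [Φ] using hw)
        exact (Prod.ext_iff.1 this).2.symm
      · rw [← LinearMap.range_eq_top, Fintype.range_linearCombination, hg]
    exact Module.Free.of_equiv (LinearEquiv.ofBijective _ hbij)

/-- Conversely, independent relations and a free cokernel give the number of generators. -/
theorem fitt_eq_top {L : Type u} [CommRing L] [Nontrivial L] {N : Type u} [AddCommGroup N] [Module L N]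
    [Module.Free L N] [Module.Finite L N] {m c n : ℕ}
    (hn : n = m + c) (v : Fin n → N) (M : Fin c → Fin n → L)
    (hrel : rel v = Submodule.span L (Set.range M)) (hv : Submodule.span L (Set.range v) = ⊤)
    (hq : Function.Injective (Fintype.linearCombination L M)) : Fitt.ideal L N m = ⊤ := by
  set q := Fintype.linearCombination L M
  set p := Fintype.linearCombination L v
  have hker : LinearMap.range q = LinearMap.ker p := by
    rw [Fintype.range_linearCombination, ← hrel]
    rfl
  have hp : Function.Surjective p := by
    rw [← LinearMap.range_eq_top, Fintype.range_linearCombination, hv]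
  obtain ⟨σ, hσ⟩ := Module.projective_lifting_property p LinearMap.id hp
  have hpq : ∀ w, p (q w) = 0 := fun w => LinearMap.mem_ker.1 (hker.le ⟨w, rfl⟩)
  have hpσ : ∀ y, p (σ y) = y := fun y => LinearMap.congr_fun hσ y
  have hbij : Function.Bijective (q.coprod σ) := by
    refine ⟨(injective_iff_map_eq_zero _).2 fun z hz => ?_, fun x => ?_⟩
    · have h2 : z.2 = 0 := by simpa [hpq, hpσ] using congrArg p hz
      refine Prod.ext (hq ?_) h2
      simpa [h2] using hz
    · obtain ⟨w, hw⟩ : x - σ (p x) ∈ LinearMap.range q := by
        rw [hker, LinearMap.mem_ker, map_sub, hpσ, sub_self]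
      exact ⟨(w, p x), by simp [hw]⟩
  have h := (LinearEquiv.ofBijective _ hbij).finrank_eq
  rw [Module.finrank_prod, Module.finrank_fin_fun, Module.finrank_fin_fun] at h
  exact ideal_eq_top (Module.finBasisOfFinrankEq L N (n := m) (by omega))
    (Module.Basis.span_eq _) le_rfl

/-- **The criterion at a prime.** -/
theorem core_iff {m c n : ℕ} (hn : n = m + c) (v : Fin n → Ω) (M : Fin c → Fin n → B)
    (hrel : rel v = Submodule.span B (Set.range M)) (hv : Submodule.span B (Set.range v) = ⊤) :
    ¬ Fitt.ideal B Ω m ≤ P ↔
      (∀ w, Fintype.linearCombination B M w = 0 → ∃ r ∉ P, r • w = 0) ∧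
        (⟨P, ‹_›⟩ : PrimeSpectrum B) ∈ Module.freeLocus B Ω := by
  haveI : Module.Finite B Ω := by
    classical
    exact ⟨⟨Finset.univ.image v, by simpa using hv⟩⟩
  set L := Localization.AtPrime P
  rw [injective_iff, Module.mem_freeLocus_iff_tensor ⟨P, ‹_›⟩ L]
  have hv' := span_range_baseChange L v hv
  have hrel' : rel (R := L) (fun i => (1 : L) ⊗ₜ[B] v i) =
      Submodule.span L (Set.range fun a => algebraMap B L ∘ M a) := by
    rw [rel_baseChange L v hv, hrel]
    refine le_antisymm (Submodule.span_le.2 ?_) (Submodule.span_mono ?_)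
    · rintro _ ⟨x, hx, rfl⟩
      obtain ⟨w, rfl⟩ := (Submodule.mem_span_range_iff_exists_fun B).1 hx
      refine (Submodule.mem_span_range_iff_exists_fun L).2 ⟨fun a => algebraMap B L (w a), ?_⟩
      ext k
      simp [Finset.sum_apply, Algebra.smul_def]
    · rintro _ ⟨a, rfl⟩
      exact ⟨M a, Submodule.subset_span ⟨a, rfl⟩, rfl⟩
  constructor
  · intro h
    obtain ⟨d, hd, g, hg⟩ := exists_span_of_not_le h
    refine free_of_span hn _ _ hrel' hv' (fun j => (1 : L) ⊗ₜ[B] g j) (eq_top_iff.2 fun y _ => ?_)
    induction y using TensorProduct.induction_on with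
    | zero => exact zero_mem _
    | add a b ha hb => exact add_mem (ha trivial) (hb trivial)
    | tmul l x =>
      obtain ⟨w, hw⟩ := (Submodule.mem_span_range_iff_exists_fun B).1 (hg x)
      have hu : IsUnit (algebraMap B L d) := IsLocalization.map_units L (⟨d, hd⟩ : P.primeCompl)
      refine (Submodule.smul_mem_iff_of_isUnit _ hu).1 ?_
      rw [algebraMap_smul, ← tmul_smul, ← hw, tmul_sum]
      refine Submodule.sum_mem _ fun j _ => ?_
      rw [tmul_smul, ← algebraMap_smul L (w j), show l ⊗ₜ[B] g j = l • ((1 : L) ⊗ₜ[B] g j) by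
        rw [TensorProduct.smul_tmul', smul_eq_mul, mul_one], smul_smul]
      exact Submodule.smul_mem _ _ (Submodule.subset_span ⟨j, rfl⟩)
  · rintro ⟨hq, hfree⟩ hle
    haveI : Module.Free L (L ⊗[B] Ω) := hfree
    have h := fitt_eq_top hn _ _ hrel' hv' hq
    rw [ideal_baseChange L m] at h
    refine (IsLocalRing.maximalIdeal.isMaximal L).ne_top (top_le_iff.1 (h ▸ ?_))
    rw [← IsLocalization.AtPrime.map_eq_maximalIdeal P L]
    exact Ideal.map_mono hle

end Groth.Agent.Lib.LciJac
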